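import Groth.Agent.HTopHyper.ValPoint
import Mathlib.RingTheory.IntegralClosure.GoingDown

/-! Over a valuation ring with algebraically closed fraction field, a rational point of the closed
fibre of a finite type flat algebra lifts to an integral point. -/

set_option autoImplicit false
set_option backward.isDefEq.respectTransparency false

universe u

open IsLocalRing
open scoped TensorProduct

namespace Groth.UOpenDesc

variable {V : Type u} [CommRing V] [IsDomain V] [ValuationRing V]

theorem exists_root_of_monic (hK : IsAlgClosed (FractionRing V)) {f : Polynomial V} (hf : f.Monic)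
    (hd : f.natDegree ≠ 0) : ∃ a, f.IsRoot a :=
  Groth.HTopHyper.exists_root_of_monic (FractionRing V) hf hd

theorem isAlgClosed_residueField (hK : IsAlgClosed (FractionRing V)) :
    IsAlgClosed (ResidueField V) := by
  refine IsAlgClosed.of_exists_root _ fun p hp hirr => ?_
  obtain ⟨q, hq, hd, hqm⟩ := Polynomial.lifts_and_natDegree_eq_and_monic
    ((Polynomial.lifts_iff_coeff_lifts (f := residue V) p).mpr fun n => residue_surjective _) hp
  obtain ⟨a, ha⟩ := exists_root_of_monic hK hqm (by rw [hd]; exact hirr.natDegree_pos.ne')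
  refine ⟨residue V a, ?_⟩
  rw [← hq, Polynomial.eval_map, Polynomial.eval₂_at_apply, show q.eval a = 0 from ha, map_zero]

/-- A homomorphism on a subalgebra containing a power multiple of each element extends. -/
theorem exists_extend {P B : Type u} [CommRing P] [CommRing B] [Algebra P B] (C : Subalgebra P B)
    (rC : C) {W : Type u} [CommRing W] (θ : C →+* W) (hru : IsUnit (θ rC))
    (h : ∀ b : B, ∃ m, (rC : B) ^ m * b ∈ C) : ∃ β : B →+* W, ∀ c : C, β c.1 = θ c := by
  have hbij' : Function.Bijective (Localization.awayMap C.val.toRingHom rC) := by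
    refine ⟨IsLocalization.map_injective_of_injective _ _ _ Subtype.val_injective, ?_⟩
    rw [Localization.awayMap_surjective_iff]
    intro b
    obtain ⟨m, hm⟩ := h b
    exact ⟨⟨_, hm⟩, m, rfl⟩
  let e := RingEquiv.ofBijective _ hbij'
  refine ⟨((IsLocalization.Away.lift rC (g := θ) hru).comp e.symm.toRingHom).comp
    (algebraMap B _), fun b => ?_⟩
  change IsLocalization.Away.lift rC hru (e.symm (algebraMap B _ b.1)) = _
  rw [show e.symm (algebraMap B _ b.1) = algebraMap C (Localization.Away rC) b from ?_,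
    IsLocalization.Away.lift_eq]
  rw [RingEquiv.symm_apply_eq]
  change _ = Localization.awayMap C.val.toRingHom rC _
  simp [Localization.awayMap, IsLocalization.Away.map]

theorem exists_lift (hK : IsAlgClosed (FractionRing V)) (B : Type u) [CommRing B] [IsDomain B]
    [Algebra V B] [Algebra.FiniteType V B] (hinj : Function.Injective (algebraMap V B))
    (ρ : B →+* ResidueField V) (hρ : ρ.comp (algebraMap V B) = residue V) :
    ∃ β : B →+* V, β.comp (algebraMap V B) = RingHom.id V ∧ (residue V).comp β = ρ := by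
  classical
  let k := ResidueField V
  have hρ' : ∀ v, ρ (algebraMap V B v) = residue V v := fun v => RingHom.congr_fun hρ v
  let mB := (maximalIdeal V).map (algebraMap V B)
  let D := B ⧸ mB
  let : Algebra k D := (Ideal.quotientMap mB (algebraMap V B) Ideal.le_comap_map).toAlgebra
  have : IsScalarTower V k D := .of_algebraMap_eq fun w => rfl
  have : Algebra.FiniteType k D := Algebra.FiniteType.of_restrictScalars_finiteType V k D
  have hmB : mB ≤ RingHom.ker ρ := Ideal.map_le_iff_le_comap.mpr fun w hw => by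
    rw [Ideal.mem_comap, RingHom.mem_ker, hρ', residue_eq_zero_iff]; exact hw
  have : Nontrivial D := Ideal.Quotient.nontrivial_iff.mpr fun h =>
    RingHom.ker_ne_top ρ (top_le_iff.mp (h ▸ hmB))
  obtain ⟨s, g, hg, hgfin⟩ := exists_finite_inj_algHom_of_fg k D
  choose x hx using fun i : Fin s => Ideal.Quotient.mk_surjective (g (MvPolynomial.X i))
  choose c hc using fun i : Fin s => residue_surjective (ρ (x i))
  let f : MvPolynomial (Fin s) V →ₐ[V] B := MvPolynomial.aeval x
  let ev : MvPolynomial (Fin s) V →ₐ[V] V := MvPolynomial.aeval c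
  let π : MvPolynomial (Fin s) V →+* MvPolynomial (Fin s) k := MvPolynomial.map (residue V)
  have hπ : (Ideal.Quotient.mk mB).comp f.toRingHom = g.toRingHom.comp π := by
    apply MvPolynomial.ringHom_ext
    · intro w
      change Ideal.Quotient.mk mB (f (MvPolynomial.C w)) = g (π (MvPolynomial.C w))
      rw [show f (MvPolynomial.C w) = algebraMap V B w from f.commutes w,
        show π (MvPolynomial.C w) = MvPolynomial.C (residue V w) from MvPolynomial.map_C _ _]
      exact (g.commutes (residue V w)).symm
    · intro i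
      change Ideal.Quotient.mk mB (f (MvPolynomial.X i)) = g (π (MvPolynomial.X i))
      rw [show π (MvPolynomial.X i) = MvPolynomial.X i from MvPolynomial.map_X _ _,
        show f (MvPolynomial.X i) = x i from MvPolynomial.aeval_X _ _, hx]
  have hπ' : ∀ p, Ideal.Quotient.mk mB (f p) = g (π p) := fun p => RingHom.congr_fun hπ p
  have hev : ∀ p, ρ (f p) = residue V (ev p) := by
    refine fun p => RingHom.congr_fun (MvPolynomial.ringHom_ext (f := ρ.comp f.toRingHom)
      (g := (residue V).comp ev.toRingHom) (fun v => ?_) fun i => ?_) p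
    · simp [f, ev, hρ']
    · simp [f, ev, hc]
  have hf : Function.Injective f := by
    rw [injective_iff_map_eq_zero]
    intro p hp
    by_contra hp0
    obtain ⟨a, p₀, d, ha, rfl, hd⟩ := Groth.HTopHyper.exists_eq_C_mul_primitive p hp0
    rw [map_mul, MvPolynomial.aeval_C] at hp
    rcases mul_eq_zero.mp hp with h | h
    · exact ha (hinj (h.trans (map_zero _).symm))
    · have h1 : π p₀ = 0 := hg (by rw [← hπ', h, map_zero, map_zero])
      have h2 := congrArg (MvPolynomial.coeff d) h1
      simp [π, MvPolynomial.coeff_map, hd] at h2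
  let : Algebra (MvPolynomial (Fin s) V) B := f.toRingHom.toAlgebra
  have : IsScalarTower V (MvPolynomial (Fin s) V) B :=
    .of_algebraMap_eq fun w => (f.commutes w).symm
  have : Algebra.FiniteType (MvPolynomial (Fin s) V) B :=
    Algebra.FiniteType.of_restrictScalars_finiteType V _ B
  let P : Ideal B := RingHom.ker ρ
  have hP : P.IsPrime := RingHom.ker_isPrime _
  let p1 : Ideal (MvPolynomial (Fin s) V) := P.comap f.toRingHom
  have : p1.IsPrime := inferInstance
  have : P.LiesOver p1 := ⟨rfl⟩
  have hle : mB ≤ p1.map (algebraMap (MvPolynomial (Fin s) V) B) := by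
    refine Ideal.map_le_iff_le_comap.mpr fun w hw => ?_
    rw [Ideal.mem_comap, ← f.commutes w]
    refine Ideal.mem_map_of_mem (algebraMap (MvPolynomial (Fin s) V) B) ?_
    show ρ (f _) = 0
    rw [f.commutes, hρ', residue_eq_zero_iff]
    exact hw
  have : Module.Finite (MvPolynomial (Fin s) V)
      (B ⧸ p1.map (algebraMap (MvPolynomial (Fin s) V) B)) := by
    have h1 : (g.toRingHom.comp π).Finite :=
      RingHom.Finite.comp hgfin
        (RingHom.Finite.of_surjective _ (MvPolynomial.map_surjective _ residue_surjective))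
    have h2 := RingHom.Finite.comp (RingHom.Finite.of_surjective (Ideal.Quotient.factor hle)
      (Ideal.Quotient.factor_surjective hle)) h1
    rw [← hπ] at h2
    exact RingHom.finite_algebraMap.mp h2
  have := Groth.HTopHyper.finite_fiber_of_finite_quotient (B := B) p1
  obtain ⟨Q', hQ', hQ'q⟩ : ∃ Q : Ideal (p1.Fiber B), Q.IsPrime ∧
      Q.comap Algebra.TensorProduct.includeRight.toRingHom = P := by
    let e := PrimeSpectrum.preimageHomeomorphFiber (MvPolynomial (Fin s) V) B ⟨p1, inferInstance⟩
    let pt : PrimeSpectrum.comap (algebraMap (MvPolynomial (Fin s) V) B) ⁻¹' {⟨p1, inferInstance⟩} :=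
      ⟨⟨P, hP⟩, PrimeSpectrum.ext rfl⟩
    exact ⟨(e pt).asIdeal, (e pt).2, congr($(e.symm_apply_apply pt).1.1)⟩
  have : Algebra.QuasiFiniteAt p1.ResidueField Q' :=
    Algebra.QuasiFinite.of_isLocalization Q'.primeCompl (S := p1.Fiber B)
  have : Algebra.WeaklyQuasiFiniteAt (MvPolynomial (Fin s) V) P :=
    Algebra.WeaklyQuasiFiniteAt.of_quasiFiniteAt_residueField (S := B) (p := p1) (q := P) Q' hQ'q
  obtain ⟨r, hr, hrint, hzmt⟩ := Algebra.zariskisMainProperty_iff.mp
    (Algebra.ZariskisMainProperty.of_finiteType_of_weaklyQuasiFiniteAt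
      (R := MvPolynomial (Fin s) V) P)
  have : IsIntegrallyClosed (MvPolynomial (Fin s) V) :=
    Groth.HTopHyper.isIntegrallyClosed_mvPolynomial V s
  let C := integralClosure (MvPolynomial (Fin s) V) B
  have : FaithfulSMul (MvPolynomial (Fin s) V) C :=
    (faithfulSMul_iff_algebraMap_injective _ _).mpr fun a b h => hf (congrArg Subtype.val h)
  let PC : Ideal C := P.comap C.val.toRingHom
  have : PC.IsPrime := inferInstance
  have : PC.LiesOver p1 := ⟨rfl⟩
  let p0 : Ideal (MvPolynomial (Fin s) V) := RingHom.ker ev.toRingHom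
  have : p0.IsPrime := RingHom.ker_isPrime _
  have h01 : p0 ≤ p1 := fun p hp => by
    show ρ (f p) = 0
    rw [hev, show ev p = 0 from hp, map_zero]
  obtain ⟨Q0, hQ0P, hQ0, hQ0p⟩ := Ideal.exists_ideal_le_liesOver_of_le (S := C) (p := p0) (q := p1) PC h01
  -- `C ⧸ Q0` is the valuation ring
  let E := C ⧸ Q0
  let : Algebra V E := ((Ideal.Quotient.mk Q0).comp ((algebraMap (MvPolynomial (Fin s) V) C).comp
    MvPolynomial.C)).toAlgebra
  have hE : ∀ p, Ideal.Quotient.mk Q0 (algebraMap (MvPolynomial (Fin s) V) C p) =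
      algebraMap V E (ev p) := by
    intro p
    refine Ideal.Quotient.eq.mpr ?_
    rw [RingHom.comp_apply, ← map_sub]
    refine (Ideal.mem_of_liesOver Q0 p0 _).mp ?_
    show ev (p - MvPolynomial.C (ev p)) = 0
    simp [ev]
  have hinjE : Function.Injective (algebraMap V E) := by
    rw [injective_iff_map_eq_zero]
    intro v hv
    have h : MvPolynomial.C v ∈ p0 :=
      (Ideal.mem_of_liesOver Q0 p0 _).mpr (Ideal.Quotient.eq_zero_iff_mem.mp hv)
    simpa [p0, ev] using h
  have : Algebra.IsIntegral V E := ⟨fun e => by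
    obtain ⟨⟨b, hb⟩, rfl⟩ := Ideal.Quotient.mk_surjective e
    obtain ⟨q, hq, hq0⟩ := hb
    refine ⟨q.map ev.toRingHom, hq.map _, ?_⟩
    rw [Polynomial.eval₂_map, show (algebraMap V E).comp ev.toRingHom =
      (Ideal.Quotient.mk Q0).comp (algebraMap (MvPolynomial (Fin s) V) C) from
        RingHom.ext fun p => (hE p).symm, ← Polynomial.hom_eval₂]
    refine (congrArg (Ideal.Quotient.mk Q0) (Subtype.ext ?_)).trans (map_zero _)
    exact (Polynomial.hom_eval₂ q _ C.val.toRingHom ⟨b, _⟩).trans hq0⟩
  obtain ⟨θ⟩ := Groth.HTopHyper.exists_extension_of_isIntegral (R := V) (S := E)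
    (K := FractionRing V) hinjE
  have hθ : Function.Injective θ := by
    rw [injective_iff_map_eq_zero]
    have h : RingHom.ker θ.toRingHom = ⊥ := by
      refine Ideal.eq_bot_of_comap_eq_bot (R := V) ?_
      refine (eq_bot_iff).mpr fun v hv => ?_
      have hv' : θ (algebraMap V E v) = 0 := hv
      rw [θ.commutes] at hv'
      exact Ideal.mem_bot.mpr (IsFractionRing.injective V (FractionRing V) (by rw [hv', map_zero]))
    intro a ha
    have : a ∈ RingHom.ker θ.toRingHom := ha
    rwa [h, Ideal.mem_bot] at this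
  have hbij : Function.Bijective (algebraMap V E) := by
    refine ⟨hinjE, fun e => ?_⟩
    obtain ⟨v, hv⟩ := IsIntegrallyClosed.algebraMap_eq_of_integral (R := V) (x := θ e)
      (by
        obtain ⟨q, hq, hq0⟩ := Algebra.IsIntegral.isIntegral (R := V) e
        refine ⟨q, hq, ?_⟩
        rw [← θ.comp_algebraMap]
        exact (Polynomial.hom_eval₂ q (algebraMap V E) θ.toRingHom e).symm.trans
          ((congrArg θ.toRingHom hq0).trans (map_zero _)))
    exact ⟨v, hθ (by rw [θ.commutes, hv])⟩
  let eE := RingEquiv.ofBijective _ hbij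
  let θC : C →+* V := eE.symm.toRingHom.comp (Ideal.Quotient.mk Q0)
  have hθC : ∀ b : C, residue V (θC b) = ρ b.1 := by
    intro b
    have h : Ideal.Quotient.mk Q0 b =
        Ideal.Quotient.mk Q0 (algebraMap (MvPolynomial (Fin s) V) C (MvPolynomial.C (θC b))) :=
      (eE.apply_symm_apply (Ideal.Quotient.mk Q0 b)).symm
    have h1 : ρ (b.1 - f (MvPolynomial.C (θC b))) = 0 := hQ0P (Ideal.Quotient.eq.mp h)
    rw [map_sub, sub_eq_zero, hev] at h1
    simpa [ev] using h1.symm
  have hθV : ∀ v, θC (algebraMap (MvPolynomial (Fin s) V) C (MvPolynomial.C v)) = v := fun v =>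
    eE.symm_apply_apply v
  -- extend to `B`
  let rC : C := ⟨r, hrint⟩
  have hru : IsUnit (θC rC) := (residue_ne_zero_iff_isUnit _).mp (by rw [hθC]; exact hr)
  obtain ⟨β, hβ⟩ := exists_extend C rC θC hru hzmt
  refine ⟨β, RingHom.ext fun v => ?_, RingHom.ext fun b => ?_⟩
  · refine Eq.trans ?_ (hθV v)
    rw [RingHom.comp_apply, ← hβ]
    exact congrArg β (f.commutes v).symm
  · obtain ⟨m, hm⟩ := hzmt b
    have h := hθC ⟨_, hm⟩
    rw [← hβ] at h
    have hr' : residue V (β r) = ρ r := by rw [show r = rC.1 from rfl, hβ, hθC]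
    simp only [map_mul, map_pow, hr'] at h
    exact mul_left_cancel₀ (pow_ne_zero m hr) h

/-- The non-domain form. -/
theorem exists_lift_of_le (hK : IsAlgClosed (FractionRing V)) (B : Type u) [CommRing B]
    [Algebra V B] [Algebra.FiniteType V B] (ρ : B →+* ResidueField V)
    (hρ : ρ.comp (algebraMap V B) = residue V) (q : Ideal B) [q.IsPrime] (hq : q ≤ RingHom.ker ρ)
    (h0 : q.comap (algebraMap V B) = ⊥) :
    ∃ β : B →+* V, β.comp (algebraMap V B) = RingHom.id V ∧ (residue V).comp β = ρ := by
  have hinj : Function.Injective (algebraMap V (B ⧸ q)) := by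
    rw [injective_iff_map_eq_zero]
    intro v hv
    have h : v ∈ q.comap (algebraMap V B) :=
      (Ideal.Quotient.eq_zero_iff_mem (I := q) (a := algebraMap V B v)).mp hv
    rwa [h0, Ideal.mem_bot] at h
  obtain ⟨β, hβ₁, hβ₂⟩ := exists_lift hK (B ⧸ q) hinj (Ideal.Quotient.lift q ρ fun a ha => hq ha)
    (RingHom.ext fun v => RingHom.congr_fun hρ v)
  refine ⟨β.comp (Ideal.Quotient.mk q), RingHom.ext fun v => RingHom.congr_fun hβ₁ v, ?_⟩
  exact RingHom.ext fun b => RingHom.congr_fun hβ₂ (Ideal.Quotient.mk q b)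

end Groth.UOpenDesc
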