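import Groth.Agent.UOpenDesc.Criterion
import Groth.Agent.Limits.RingPropDescent
import Mathlib.Order.Filter.Ultrafilter.Basic

/-! Universal openness descends along filtered colimits of rings, by an ultraproduct. -/

set_option autoImplicit false
set_option backward.isDefEq.respectTransparency false

universe u

open IsLocalRing CategoryTheory Limits AlgebraicGeometry Filter
open scoped TensorProduct
open Groth.Calg4 (IsColim Trans)

namespace Groth.UOpenDesc

variable {ι : Type u} [Preorder ι] [IsDirected ι (· ≤ ·)] [Nonempty ι]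
  {A₀ : Type u} [CommRing A₀] {G : ι → Type u} [∀ n, CommRing (G n)] [∀ n, Algebra A₀ (G n)]
  {A : Type u} [CommRing A] [Algebra A₀ A]
  {f : ∀ m n, m ≤ n → (G m →ₐ[A₀] G n)} {g : ∀ n, G n →ₐ[A₀] A}

theorem exists_lifts (H : IsColim f g) (S : Finset A) :
    ∃ (n : ι) (lam : A → G n), ∀ a ∈ S, g n (lam a) = a := by
  classical
  induction S using Finset.induction_on with
  | empty => exact ⟨Classical.arbitrary ι, fun _ => 0, by simp⟩
  | insert a S _ ih =>
    obtain ⟨n, lam, hlam⟩ := ih
    obtain ⟨m, x, hx⟩ := H.surj a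
    obtain ⟨k, ⟨φ⟩, ⟨φ'⟩⟩ := H.exists_common n m
    refine ⟨k, fun b => if b = a then φ'.1 x else φ.1 (lam b), fun b hb => ?_⟩
    beta_reduce
    split_ifs with h
    · subst h; rw [φ'.apply, hx]
    · rw [φ.apply]
      exact hlam b ((Finset.mem_insert.mp hb).resolve_left h)

/-- A section on a finite part of the colimit which respects the relations of that part. -/
theorem exists_partial_section (H : IsColim f g) (S : Finset A) (T : Finset A₀) :
    ∃ (n : ι) (lam : A → G n), lam 1 = 1 ∧ lam 0 = 0 ∧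
      (∀ a ∈ S, ∀ b ∈ S, lam (a + b) = lam a + lam b ∧ lam (a * b) = lam a * lam b) ∧
      ∀ a ∈ T, lam (algebraMap A₀ A a) = algebraMap A₀ (G n) a := by
  classical
  let S' : Finset A := S ∪ {1, 0} ∪ (S ×ˢ S).image (fun p => p.1 + p.2) ∪
    (S ×ˢ S).image (fun p => p.1 * p.2) ∪ T.image (algebraMap A₀ A)
  obtain ⟨n, lam, hlam⟩ := exists_lifts H S'
  let R : Finset (G n) := {lam 1 - 1, lam 0} ∪
    (S ×ˢ S).image (fun p => lam (p.1 + p.2) - (lam p.1 + lam p.2)) ∪
    (S ×ˢ S).image (fun p => lam (p.1 * p.2) - lam p.1 * lam p.2) ∪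
    T.image (fun a => lam (algebraMap A₀ A a) - algebraMap A₀ (G n) a)
  have hS : ∀ a ∈ S, g n (lam a) = a := fun a ha => hlam a (by simp [S', ha])
  obtain ⟨k, φ, hφ⟩ := H.exists_zero_finset R (by
    intro x hx
    simp only [R, Finset.mem_union, Finset.mem_insert, Finset.mem_singleton, Finset.mem_image,
      Finset.mem_product] at hx
    rcases hx with (((rfl | rfl) | ⟨⟨a, b⟩, ⟨ha, hb⟩, rfl⟩) | ⟨⟨a, b⟩, ⟨ha, hb⟩, rfl⟩) |
      ⟨a, ha, rfl⟩
    · rw [map_sub, hlam 1 (by simp [S']), map_one, sub_self]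
    · exact hlam 0 (by simp [S'])
    · rw [map_sub, map_add, hS a ha, hS b hb, hlam (a + b) (by
        simp only [S', Finset.mem_union, Finset.mem_image, Finset.mem_product]
        exact Or.inl (Or.inl (Or.inr ⟨(a, b), ⟨ha, hb⟩, rfl⟩))), sub_self]
    · rw [map_sub, map_mul, hS a ha, hS b hb, hlam (a * b) (by
        simp only [S', Finset.mem_union, Finset.mem_image, Finset.mem_product]
        exact Or.inl (Or.inr ⟨(a, b), ⟨ha, hb⟩, rfl⟩)), sub_self]
    · rw [map_sub, AlgHom.commutes, hlam _ (by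
        simp only [S', Finset.mem_union, Finset.mem_image]
        exact Or.inr ⟨a, ha, rfl⟩), sub_self])
  refine ⟨k, fun a => φ.1 (lam a), ?_, ?_, fun a ha b hb => ⟨?_, ?_⟩, fun a ha => ?_⟩
  · have h := hφ (lam 1 - 1) (by simp [R])
    rwa [map_sub, map_one, sub_eq_zero] at h
  · exact hφ (lam 0) (by simp [R])
  · have h := hφ _ (show lam (a + b) - (lam a + lam b) ∈ R by
      simp only [R, Finset.mem_union, Finset.mem_image, Finset.mem_product]
      exact Or.inl (Or.inl (Or.inr ⟨(a, b), ⟨ha, hb⟩, rfl⟩)))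
    rwa [map_sub, map_add, sub_eq_zero] at h
  · have h := hφ _ (show lam (a * b) - lam a * lam b ∈ R by
      simp only [R, Finset.mem_union, Finset.mem_image, Finset.mem_product]
      exact Or.inl (Or.inr ⟨(a, b), ⟨ha, hb⟩, rfl⟩))
    rwa [map_sub, map_mul, sub_eq_zero] at h
  · have h := hφ _ (show lam (algebraMap A₀ A a) - algebraMap A₀ (G n) a ∈ R by
      simp only [R, Finset.mem_union, Finset.mem_image]
      exact Or.inr ⟨a, ha, rfl⟩)
    rwa [map_sub, AlgHom.commutes, sub_eq_zero] at h

section Ultraproduct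

variable {J : Type u} (U : Ultrafilter J) (V : J → Type u) [∀ i, CommRing (V i)]

/-- The ideal of families vanishing along the ultrafilter. -/
def ultraIdeal : Ideal (∀ i, V i) where
  carrier := {x | ∀ᶠ i in U, x i = 0}
  add_mem' ha hb := (ha.and hb).mono fun i h => by simp [h.1, h.2]
  zero_mem' := Eventually.of_forall fun _ => rfl
  smul_mem' c _ ha := ha.mono fun i h => by simp [h]

/-- The ultraproduct of rings. -/
abbrev UProd : Type u := (∀ i, V i) ⧸ ultraIdeal U V

variable {U V}

theorem mk_eq_mk {x y : ∀ i, V i} :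
    Ideal.Quotient.mk (ultraIdeal U V) x = Ideal.Quotient.mk (ultraIdeal U V) y ↔
      ∀ᶠ i in U, x i = y i := by
  rw [Ideal.Quotient.eq]
  show (∀ᶠ i in U, (x - y) i = 0) ↔ _
  simp [sub_eq_zero]

theorem isUnit_mk {x : ∀ i, V i} :
    IsUnit (Ideal.Quotient.mk (ultraIdeal U V) x) ↔ ∀ᶠ i in U, IsUnit (x i) := by
  classical
  constructor
  · intro h
    obtain ⟨b, hb⟩ := isUnit_iff_exists_inv.mp h
    obtain ⟨y, rfl⟩ := Ideal.Quotient.mk_surjective b
    rw [← map_mul, ← map_one (Ideal.Quotient.mk (ultraIdeal U V)), mk_eq_mk] at hb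
    exact hb.mono fun i hi => isUnit_iff_exists_inv.mpr ⟨y i, hi⟩
  · intro h
    refine isUnit_iff_exists_inv.mpr ⟨Ideal.Quotient.mk _ (fun i => Ring.inverse (x i)), ?_⟩
    rw [← map_mul, ← map_one (Ideal.Quotient.mk (ultraIdeal U V)), mk_eq_mk]
    exact h.mono fun i hi => Ring.mul_inverse_cancel _ hi

variable [∀ i, IsDomain (V i)]

instance : IsDomain (UProd U V) := by
  haveI : (ultraIdeal U V).IsPrime := by
    refine ⟨fun h => ?_, fun {a b} hab => ?_⟩
    · obtain ⟨i, hi⟩ := (show ∀ᶠ i in U, (1 : V i) = 0 from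
        (Ideal.eq_top_iff_one (ultraIdeal U V)).mp h).exists
      exact one_ne_zero hi
    · exact Ultrafilter.eventually_or.mp
        (Eventually.mono hab fun i h => mul_eq_zero.mp h)
  exact Ideal.Quotient.isDomain _

variable [∀ i, ValuationRing (V i)]

instance : ValuationRing (UProd U V) := by
  classical
  refine ValuationRing.iff_dvd_total.mpr ⟨fun a b => ?_⟩
  obtain ⟨x, rfl⟩ := Ideal.Quotient.mk_surjective a
  obtain ⟨y, rfl⟩ := Ideal.Quotient.mk_surjective b
  have h : ∀ᶠ i in U, x i ∣ y i ∨ y i ∣ x i := Eventually.of_forall fun i =>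
    (ValuationRing.iff_dvd_total.mp inferInstance).total (x i) (y i)
  rcases Ultrafilter.eventually_or.mp h with h | h
  · refine Or.inl ⟨Ideal.Quotient.mk _ (fun i => if hi : x i ∣ y i then hi.choose else 0), ?_⟩
    rw [← map_mul, mk_eq_mk]
    exact h.mono fun i hi => by simp only [Pi.mul_apply, dif_pos hi]; exact hi.choose_spec
  · refine Or.inr ⟨Ideal.Quotient.mk _ (fun i => if hi : y i ∣ x i then hi.choose else 0), ?_⟩
    rw [← map_mul, mk_eq_mk]
    exact h.mono fun i hi => by simp only [Pi.mul_apply, dif_pos hi]; exact hi.choose_spec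

theorem residue_mk_eq {x y : ∀ i, V i} :
    residue (UProd U V) (Ideal.Quotient.mk (ultraIdeal U V) x) =
        residue (UProd U V) (Ideal.Quotient.mk (ultraIdeal U V) y) ↔
      ∀ᶠ i in U, residue (V i) (x i) = residue (V i) (y i) := by
  rw [← sub_eq_zero, ← map_sub, ← map_sub, residue_eq_zero_iff, mem_maximalIdeal, mem_nonunits_iff,
    isUnit_mk, ← Ultrafilter.eventually_not]
  refine eventually_congr (Eventually.of_forall fun i => ?_)
  rw [← sub_eq_zero (a := residue (V i) (x i)), ← map_sub, residue_eq_zero_iff, mem_maximalIdeal,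
    mem_nonunits_iff]
  rfl

theorem isAlgClosed_of_forall_root {W : Type u} [CommRing W] [IsDomain W]
    (h : ∀ p : Polynomial W, p.Monic → p.natDegree ≠ 0 → ∃ a, p.IsRoot a) :
    IsAlgClosed (FractionRing W) := by
  refine IsAlgClosed.of_exists_root _ fun p hp hirr => ?_
  obtain ⟨d, hd⟩ := IsLocalization.exist_integer_multiples_of_finite (nonZeroDivisors W)
    (fun j : Fin p.natDegree => p.coeff j)
  let dK := algebraMap W (FractionRing W) d
  have hd0 : dK ≠ 0 := IsFractionRing.to_map_ne_zero_of_mem_nonZeroDivisors d.2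
  have hlift : p.scaleRoots dK ∈ Polynomial.lifts (algebraMap W (FractionRing W)) := by
    rw [Polynomial.lifts_iff_coeff_lifts]
    intro j
    rw [Polynomial.coeff_scaleRoots]
    rcases lt_trichotomy j p.natDegree with hj | hj | hj
    · obtain ⟨w, hw⟩ := hd ⟨j, hj⟩
      refine ⟨w * (d : W) ^ (p.natDegree - j - 1), ?_⟩
      rw [map_mul, map_pow, hw, Algebra.smul_def, mul_comm dK, mul_assoc, ← pow_succ',
        Nat.sub_add_cancel (by omega)]
    · exact ⟨1, by subst hj; simp [hp]⟩
    · exact ⟨0, by simp [Polynomial.coeff_eq_zero_of_natDegree_lt hj]⟩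
  obtain ⟨q, hq, hdeg, hqm⟩ := Polynomial.lifts_and_natDegree_eq_and_monic hlift
    ((Polynomial.monic_scaleRoots_iff dK).mpr hp)
  obtain ⟨a, ha⟩ := h q hqm (by
    rw [hdeg, Polynomial.natDegree_scaleRoots]; exact hirr.natDegree_pos.ne')
  refine ⟨algebraMap W (FractionRing W) a / dK, ?_⟩
  have h0 : (p.scaleRoots dK).eval (algebraMap W (FractionRing W) a) = 0 := by
    rw [← hq, Polynomial.eval_map, Polynomial.eval₂_at_apply, show q.eval a = 0 from ha, map_zero]
  have h1 := Polynomial.scaleRoots_eval₂_mul (p := p) (RingHom.id _)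
    (algebraMap W (FractionRing W) a / dK) dK
  rw [Polynomial.eval₂_id, Polynomial.eval₂_id, RingHom.id_apply, mul_div_cancel₀ _ hd0, h0] at h1
  exact (mul_eq_zero.mp h1.symm).resolve_left (pow_ne_zero _ hd0)

theorem isAlgClosed_uProd (h : ∀ i, IsAlgClosed (FractionRing (V i))) :
    IsAlgClosed (FractionRing (UProd U V)) := by
  refine isAlgClosed_of_forall_root fun p hp hd => ?_
  obtain ⟨P, hP, hPd, hPm⟩ := Polynomial.lifts_and_natDegree_eq_and_monic
    ((Polynomial.lifts_iff_coeff_lifts (f := Ideal.Quotient.mk (ultraIdeal U V)) p).mpr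
      fun n => Ideal.Quotient.mk_surjective _) hp
  have hroot : ∀ i, ∃ a, (P.map (Pi.evalRingHom V i)).IsRoot a := fun i =>
    exists_root_of_monic (h i) (hPm.map _) (by rw [hPm.natDegree_map, hPd]; exact hd)
  choose a ha using hroot
  refine ⟨Ideal.Quotient.mk _ a, ?_⟩
  rw [Polynomial.IsRoot, ← hP, Polynomial.eval_map, Polynomial.eval₂_at_apply,
    ← map_zero (Ideal.Quotient.mk (ultraIdeal U V)), mk_eq_mk]
  refine Eventually.of_forall fun i => ?_
  exact (Polynomial.eval₂_at_apply (Pi.evalRingHom V i) a).symm.trans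
    ((Polynomial.eval_map _ _).symm.trans (ha i))

end Ultraproduct

theorem exists_good_stage (H : IsColim f g) {C : Type u} [CommRing C] [Algebra A₀ C]
    [Algebra.FinitePresentation A₀ C] (h : Good A₀ C A) : ∃ n, Good A₀ C (G n) := by
  classical
  by_contra hne
  simp only [not_exists, Good, not_forall] at hne
  choose V hV hVd hVv hK ψ χ hcomm hbad using hne
  choose stg lam hlam1 hlam0 hlamop hlamT using fun s : Finset A × Finset A₀ =>
    exists_partial_section H s.1 s.2
  let U : Ultrafilter (Finset A × Finset A₀) := Ultrafilter.of atTop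
  have hev : ∀ {P : Finset A × Finset A₀ → Prop} (s₀ : Finset A × Finset A₀),
      (∀ s, s₀ ≤ s → P s) → ∀ᶠ s in U, P s := fun {P} s₀ hs =>
    (Ultrafilter.of_le atTop) (eventually_atTop.mpr ⟨s₀, hs⟩)
  letI : ∀ s, CommRing (V (stg s)) := fun s => hV (stg s)
  haveI : ∀ s, IsDomain (V (stg s)) := fun s => hVd (stg s)
  haveI : ∀ s, ValuationRing (V (stg s)) := fun s => hVv (stg s)
  let W := UProd U fun s => V (stg s)
  let mk : (∀ s, V (stg s)) →+* W := Ideal.Quotient.mk _
  let ψ' : A →+* W :=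
    { toFun := fun a => mk fun s => ψ (stg s) (lam s a)
      map_one' := mk_eq_mk.mpr (Eventually.of_forall fun s => by
        show ψ (stg s) (lam s 1) = 1
        rw [hlam1, map_one])
      map_zero' := mk_eq_mk.mpr (Eventually.of_forall fun s => by
        show ψ (stg s) (lam s 0) = 0
        rw [hlam0, map_zero])
      map_add' := fun a b => by
        rw [← map_add]
        refine mk_eq_mk.mpr (hev ({a, b}, ∅) fun s hs => ?_)
        show _ = ψ (stg s) (lam s a) + ψ (stg s) (lam s b)
        rw [(hlamop s a (hs.1 (by simp)) b (hs.1 (by simp))).1, map_add]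
      map_mul' := fun a b => by
        rw [← map_mul]
        refine mk_eq_mk.mpr (hev ({a, b}, ∅) fun s hs => ?_)
        show _ = ψ (stg s) (lam s a) * ψ (stg s) (lam s b)
        rw [(hlamop s a (hs.1 (by simp)) b (hs.1 (by simp))).2, map_mul] }
  choose L hL using fun (s : Finset A × Finset A₀) (c : C) => residue_surjective (χ (stg s) c)
  let χ' : C →+* ResidueField W :=
    { toFun := fun c => residue W (mk fun s => L s c)
      map_one' := by
        rw [← map_one (residue W), ← map_one mk]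
        exact residue_mk_eq.mpr (Eventually.of_forall fun s => by
          simp only [hL, Pi.one_apply, map_one])
      map_zero' := by
        rw [← map_zero (residue W), ← map_zero mk]
        exact residue_mk_eq.mpr (Eventually.of_forall fun s => by
          simp only [hL, Pi.zero_apply, map_zero])
      map_add' := fun c d => by
        rw [← map_add, ← map_add]
        exact residue_mk_eq.mpr (Eventually.of_forall fun s => by
          simp only [hL, Pi.add_apply, map_add])
      map_mul' := fun c d => by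
        rw [← map_mul, ← map_mul]
        exact residue_mk_eq.mpr (Eventually.of_forall fun s => by
          simp only [hL, Pi.mul_apply, map_mul]) }
  have hψ' : ∀ a₀, ψ' (algebraMap A₀ A a₀) =
      mk fun s => ψ (stg s) (algebraMap A₀ (G (stg s)) a₀) := fun a₀ =>
    mk_eq_mk.mpr (hev (∅, {a₀}) fun s hs => by rw [hlamT s a₀ (hs.2 (by simp))])
  obtain ⟨β, hβ1, hβ2⟩ := h W (isAlgClosed_uProd fun s => hK (stg s)) ψ' χ' (RingHom.ext fun a₀ => by
    show residue W (mk fun s => L s (algebraMap A₀ C a₀)) = residue W (ψ' (algebraMap A₀ A a₀))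
    rw [hψ']
    exact residue_mk_eq.mpr (Eventually.of_forall fun s => by
      beta_reduce
      rw [hL]; exact RingHom.congr_fun (hcomm (stg s)) a₀))
  obtain ⟨N, π, hπ, hfg⟩ := (‹Algebra.FinitePresentation A₀ C›).out
  obtain ⟨T, hT⟩ := hfg
  choose b hb using fun k : Fin N => Ideal.Quotient.mk_surjective (β (π (MvPolynomial.X k)))
  let ev : ∀ s, MvPolynomial (Fin N) A₀ →+* V (stg s) := fun s =>
    MvPolynomial.eval₂Hom ((ψ (stg s)).comp (algebraMap A₀ (G (stg s)))) fun k => b k s
  have hevβ : ∀ F, mk (fun s => ev s F) = β (π F) := by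
    refine fun F => RingHom.congr_fun (MvPolynomial.ringHom_ext (f := mk.comp (Pi.ringHom ev))
      (g := β.comp π.toRingHom) (fun a₀ => ?_) fun k => ?_) F
    · show mk (fun s => ev s (MvPolynomial.C a₀)) = β (π (MvPolynomial.C a₀))
      rw [show π (MvPolynomial.C a₀) = algebraMap A₀ C a₀ from π.commutes a₀,
        show β (algebraMap A₀ C a₀) = ψ' (algebraMap A₀ A a₀) from RingHom.congr_fun hβ1 a₀, hψ']
      simp [ev]
    · show mk (fun s => ev s (MvPolynomial.X k)) = β (π (MvPolynomial.X k))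
      rw [← hb]
      simp [ev, mk]
      rfl
  have hrel : ∀ᶠ s in U, ∀ F ∈ T, ev s F = 0 := by
    refine (Filter.eventually_all_finset T).mpr fun F hF => ?_
    have h0 : π F = 0 := by
      have : F ∈ RingHom.ker π := hT ▸ Submodule.subset_span hF
      exact this
    have h1 := hevβ F
    rw [h0, map_zero, ← map_zero mk] at h1
    exact mk_eq_mk.mp h1
  have hres : ∀ᶠ s in U, ∀ k, residue (V (stg s)) (b k s) = χ (stg s) (π (MvPolynomial.X k)) := by
    refine Filter.eventually_all.mpr fun k => ?_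
    have h1 : residue W (mk (b k)) = residue W (mk fun s => L s (π (MvPolynomial.X k))) := by
      rw [show mk (b k) = β (π (MvPolynomial.X k)) from hb k]
      exact RingHom.congr_fun hβ2 _
    exact (residue_mk_eq.mp h1).mono fun s hs => hs.trans (hL s _)
  obtain ⟨s, hs1, hs2⟩ := (hrel.and hres).exists
  have hker : RingHom.ker π.toRingHom ≤ RingHom.ker (ev s) := fun F hF => by
    have hF' : F ∈ RingHom.ker π.toRingHom := hF
    rw [← hT] at hF'
    exact Ideal.span_le.mpr (fun G hG => hs1 G hG) hF'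
  let β₁ : C →+* V (stg s) := π.toRingHom.liftOfSurjective hπ ⟨ev s, hker⟩
  have hβ₁ : ∀ F, β₁ (π F) = ev s F := fun F =>
    RingHom.liftOfRightInverse_comp_apply π.toRingHom _ _ ⟨ev s, hker⟩ F
  refine hbad (stg s) β₁ ⟨RingHom.ext fun a₀ => ?_, RingHom.ext fun c => ?_⟩
  · show β₁ (algebraMap A₀ C a₀) = _
    rw [← π.commutes, hβ₁]
    simp [ev]
  · obtain ⟨F, rfl⟩ := hπ c
    show residue _ (β₁ (π F)) = χ (stg s) (π F)
    rw [hβ₁]
    refine RingHom.congr_fun (MvPolynomial.ringHom_ext (f := (residue _).comp (ev s))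
      (g := (χ (stg s)).comp π.toRingHom) (fun a₀ => ?_) fun k => ?_) F
    · show residue _ (ev s (MvPolynomial.C a₀)) = χ (stg s) (π (MvPolynomial.C a₀))
      rw [show π (MvPolynomial.C a₀) = algebraMap A₀ C a₀ from π.commutes a₀]
      simp only [ev, MvPolynomial.eval₂Hom_C]
      exact (RingHom.congr_fun (hcomm (stg s)) a₀).symm
    · show residue _ (ev s (MvPolynomial.X k)) = χ (stg s) (π (MvPolynomial.X k))
      simpa [ev] using hs2 k

/-- Universal openness of `Spec` of a ring map. -/
abbrev UOQ {R S : Type u} [CommRing R] [CommRing S] (φ : R →+* S) : Prop :=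
  UniversallyOpen (Spec.map (CommRingCat.ofHom φ))

theorem good_tensor_iff (R : Type u) [CommRing R] [Algebra A₀ R] {C : Type u} [CommRing C]
    [Algebra A₀ C] [Algebra.FinitePresentation A₀ C] :
    UOQ (algebraMap (A₀ ⊗[A₀] R) ((A₀ ⊗[A₀] R) ⊗[A₀] C)) ↔ Good A₀ C R :=
  universallyOpen_iff_good.trans
    ⟨Good.of_algHom (Algebra.TensorProduct.lid A₀ R).toAlgHom,
      Good.of_algHom (Algebra.TensorProduct.lid A₀ R).symm.toAlgHom⟩

theorem ringDescends : Groth.Limits.RingDescends.{u} @UOQ.{u} := by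
  intro ι _ _ _ A₀ _ G _ _ A _ _ f g H C _ _ _ h
  obtain ⟨n, hn⟩ := exists_good_stage H ((good_tensor_iff A).mp h)
  exact ⟨n, (good_tensor_iff (G n)).mpr hn⟩

end Groth.UOpenDesc
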