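import Groth.Agent.UOpenDesc.Lift
import Groth.Agent.FlatMor2.UnivOpen
import Mathlib.RingTheory.Spectrum.Prime.Chevalley
import Mathlib.RingTheory.Valuation.LocalSubring

/-! A valuative criterion for a finitely presented ring map to be universally open. -/

set_option autoImplicit false
set_option backward.isDefEq.respectTransparency false

universe u

open IsLocalRing CategoryTheory Limits AlgebraicGeometry
open scoped TensorProduct

namespace Groth.UOpenDesc

variable (A₀ C R : Type u) [CommRing A₀] [CommRing C] [CommRing R] [Algebra A₀ C] [Algebra A₀ R]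

/-- Rational points of closed fibres lift over valuation rings with algebraically closed fraction
field. -/
def Good : Prop :=
  ∀ (V : Type u) [CommRing V] [IsDomain V] [ValuationRing V], IsAlgClosed (FractionRing V) →
    ∀ (ψ : R →+* V) (χ : C →+* ResidueField V),
      χ.comp (algebraMap A₀ C) = (residue V).comp (ψ.comp (algebraMap A₀ R)) →
        ∃ β : C →+* V, β.comp (algebraMap A₀ C) = ψ.comp (algebraMap A₀ R) ∧
          (residue V).comp β = χ

variable {A₀ C R}

theorem Good.of_algHom {S : Type u} [CommRing S] [Algebra A₀ S] (h : R →ₐ[A₀] S)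
    (hR : Good A₀ C R) : Good A₀ C S := by
  intro V _ _ _ hK ψ χ hχ
  have e : (ψ.comp h.toRingHom).comp (algebraMap A₀ R) = ψ.comp (algebraMap A₀ S) :=
    RingHom.ext fun a => congrArg ψ (h.commutes a)
  obtain ⟨β, h1, h2⟩ := hR V hK (ψ.comp h.toRingHom) χ (hχ.trans (by rw [e]))
  exact ⟨β, h1.trans e, h2⟩

theorem good_of_universallyOpen [Algebra.FiniteType A₀ C]
    (h : UniversallyOpen (Spec.map (CommRingCat.ofHom (algebraMap R (R ⊗[A₀] C))))) :
    Good A₀ C R := by
  intro V _ _ _ hK ψ χ hχ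
  letI : Algebra R V := ψ.toAlgebra
  letI : Algebra A₀ V := (ψ.comp (algebraMap A₀ R)).toAlgebra
  have : IsScalarTower A₀ R V := .of_algebraMap_eq fun _ => rfl
  letI : Algebra A₀ (ResidueField V) :=
    ((residue V).comp (ψ.comp (algebraMap A₀ R))).toAlgebra
  let Θ : R ⊗[A₀] C →+* V ⊗[A₀] C :=
    (Algebra.TensorProduct.map (IsScalarTower.toAlgHom A₀ R V) (AlgHom.id A₀ C)).toRingHom
  have top : IsPushout (CommRingCat.ofHom (algebraMap R (R ⊗[A₀] C))) (CommRingCat.ofHom ψ)
      (CommRingCat.ofHom Θ) (CommRingCat.ofHom (algebraMap V (V ⊗[A₀] C))) := by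
    refine IsPushout.of_top ?_ ?_ (CommRingCat.isPushout_tensorProduct A₀ R C).flip
    · have e1 : CommRingCat.ofHom (algebraMap A₀ R) ≫ CommRingCat.ofHom ψ =
          CommRingCat.ofHom (algebraMap A₀ V) := rfl
      have e2 : CommRingCat.ofHom
            (Algebra.TensorProduct.includeRight : C →ₐ[A₀] R ⊗[A₀] C).toRingHom ≫
          CommRingCat.ofHom Θ = CommRingCat.ofHom
            (Algebra.TensorProduct.includeRight : C →ₐ[A₀] V ⊗[A₀] C).toRingHom := by
        ext x; simp [Θ]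
      rw [e1, e2]
      exact (CommRingCat.isPushout_tensorProduct A₀ V C).flip
    · ext x
      show Θ (x ⊗ₜ[A₀] 1) = ψ x ⊗ₜ[A₀] 1
      simp [Θ, RingHom.algebraMap_toAlgebra]
  have huo : UniversallyOpen (Spec.map (CommRingCat.ofHom (algebraMap V (V ⊗[A₀] C)))) :=
    MorphismProperty.of_isPullback (isPullback_SpecMap_of_isPushout _ _ _ _ top) h
  have hopen : IsOpenMap (PrimeSpectrum.comap (algebraMap V (V ⊗[A₀] C))) :=
    (Spec.map (CommRingCat.ofHom (algebraMap V (V ⊗[A₀] C)))).isOpenMap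
  let resₐ : V →ₐ[A₀] ResidueField V := ⟨residue V, fun _ => rfl⟩
  let χₐ : C →ₐ[A₀] ResidueField V := ⟨χ, fun a => RingHom.congr_fun hχ a⟩
  let ρ : V ⊗[A₀] C →+* ResidueField V :=
    (Algebra.TensorProduct.lift resₐ χₐ fun _ _ => Commute.all _ _).toRingHom
  have hρ : ρ.comp (algebraMap V (V ⊗[A₀] C)) = residue V := RingHom.ext fun v => by
    show ρ (v ⊗ₜ[A₀] 1) = residue V v
    simp [ρ, resₐ]
  let P : Ideal (V ⊗[A₀] C) := RingHom.ker ρ
  have hP : P.IsPrime := RingHom.ker_isPrime _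
  let M : Submonoid (V ⊗[A₀] C) :=
    P.primeCompl ⊔ (nonZeroDivisors V).map (algebraMap V (V ⊗[A₀] C)).toMonoidHom
  have hM : (0 : V ⊗[A₀] C) ∉ M := by
    intro h0
    obtain ⟨g, hg, y, ⟨v, hv, rfl⟩, hgy⟩ := Submonoid.mem_sup.mp h0
    obtain ⟨Q, hQ, hQ0⟩ : (⟨⊥, Ideal.bot_prime⟩ : PrimeSpectrum V) ∈
        PrimeSpectrum.comap (algebraMap V (V ⊗[A₀] C)) '' (PrimeSpectrum.basicOpen g) := by
      have hm : IsLocalRing.closedPoint V ∈
          PrimeSpectrum.comap (algebraMap V (V ⊗[A₀] C)) '' (PrimeSpectrum.basicOpen g) := by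
        refine ⟨⟨P, hP⟩, hg, PrimeSpectrum.ext (Ideal.ext fun w => ?_)⟩
        show ρ (algebraMap V _ w) = 0 ↔ w ∈ maximalIdeal V
        rw [show ρ (algebraMap V (V ⊗[A₀] C) w) = residue V w from RingHom.congr_fun hρ w,
          residue_eq_zero_iff]
      have := hopen _ (PrimeSpectrum.basicOpen g).isOpen
      refine Specializes.mem_open ?_ this hm
      exact (PrimeSpectrum.le_iff_specializes _ _).mp bot_le
    have hmem : g * algebraMap V (V ⊗[A₀] C) v ∈ Q.asIdeal := by
      rw [show g * algebraMap V (V ⊗[A₀] C) v = 0 from hgy]; exact zero_mem _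
    rcases Q.isPrime.mem_or_mem hmem with h | h
    · exact hQ h
    · have hv0 : v ∈ (⊥ : Ideal V) := by
        have := congrArg PrimeSpectrum.asIdeal hQ0
        exact (SetLike.ext_iff.mp this v).mp h
      exact nonZeroDivisors.ne_zero hv (Ideal.mem_bot.mp hv0)
  obtain ⟨q, hq, -, hqM⟩ := Ideal.exists_le_prime_disjoint (⊥ : Ideal (V ⊗[A₀] C)) M
    (Set.disjoint_left.mpr fun x hx hxM => hM (by
      rwa [show x = 0 from Ideal.mem_bot.mp hx] at hxM))
  haveI := hq
  obtain ⟨β, hβ1, hβ2⟩ := exists_lift_of_le hK (V ⊗[A₀] C) ρ hρ q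
    (fun x hx => by_contra fun hxP => Set.disjoint_left.mp hqM hx
      (Submonoid.mem_sup_left (S := P.primeCompl) hxP))
    (eq_bot_iff.mpr fun v hv => Ideal.mem_bot.mpr (by_contra fun hv0 => Set.disjoint_left.mp hqM hv
      (Submonoid.mem_sup_right ⟨v, mem_nonZeroDivisors_of_ne_zero hv0, rfl⟩)))
  refine ⟨β.comp (Algebra.TensorProduct.includeRight : C →ₐ[A₀] V ⊗[A₀] C).toRingHom,
    RingHom.ext fun a => ?_, RingHom.ext fun c => ?_⟩
  · show β ((Algebra.TensorProduct.includeRight : C →ₐ[A₀] V ⊗[A₀] C) (algebraMap A₀ C a)) = _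
    rw [AlgHom.commutes, IsScalarTower.algebraMap_apply A₀ V (V ⊗[A₀] C)]
    exact RingHom.congr_fun hβ1 (algebraMap A₀ V a)
  · refine (RingHom.congr_fun hβ2 _).trans ?_
    show ρ (1 ⊗ₜ[A₀] c) = χ c
    simp [ρ, resₐ, χₐ]

/-- The residue fields of a valuation ring dominating a specialization are large enough. -/
theorem exists_residue_point {A' B' k : Type u} [CommRing A'] [CommRing B'] [Field k]
    [IsAlgClosed k] [Algebra A' B'] [Algebra.FiniteType A' B'] [Algebra A' k] (g : B')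
    (x : Ideal B') [x.IsPrime] (hg : g ∉ x)
    (hx : x.comap (algebraMap A' B') = RingHom.ker (algebraMap A' k)) :
    ∃ ρ : B' →ₐ[A'] k, ρ g ≠ 0 := by
  let p : Ideal A' := RingHom.ker (algebraMap A' k)
  have : p.IsPrime := RingHom.ker_isPrime _
  let L := x.ResidueField
  letI : Algebra A' L := ((algebraMap B' L).comp (algebraMap A' B')).toAlgebra
  letI aL : Algebra p.ResidueField L :=
    (Ideal.ResidueField.lift p (algebraMap A' L) (fun a ha => by
        show algebraMap B' L (algebraMap A' B' a) = 0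
        rw [Ideal.algebraMap_residueField_eq_zero]
        rw [← Ideal.mem_comap, hx]; exact ha)
      (fun a ha => by
        refine isUnit_iff_ne_zero.mpr fun h => ha ?_
        have h' : algebraMap A' B' a ∈ x := Ideal.algebraMap_residueField_eq_zero.mp h
        rw [← Ideal.mem_comap, hx] at h'; exact h')).toAlgebra
  letI ak : Algebra p.ResidueField k :=
    (Ideal.ResidueField.lift p (algebraMap A' k) (fun a ha => ha)
      (fun a ha => isUnit_iff_ne_zero.mpr ha)).toAlgebra
  have : IsScalarTower A' p.ResidueField L := .of_algebraMap_eq fun a =>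
    (Ideal.ResidueField.lift_algebraMap _ _ _ _ a).symm
  have : IsScalarTower A' p.ResidueField k := .of_algebraMap_eq fun a =>
    (Ideal.ResidueField.lift_algebraMap _ _ _ _ a).symm
  have : Nontrivial (L ⊗[p.ResidueField] k) :=
    Algebra.TensorProduct.nontrivial_of_algebraMap_injective_of_isDomain p.ResidueField L k
      (algebraMap p.ResidueField L).injective (algebraMap p.ResidueField k).injective
  obtain ⟨N, hN⟩ := Ideal.exists_maximal (L ⊗[p.ResidueField] k)
  letI : Field ((L ⊗[p.ResidueField] k) ⧸ N) := Ideal.Quotient.field N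
  let qL : B' →ₐ[A'] (L ⊗[p.ResidueField] k) ⧸ N :=
    ((Ideal.Quotient.mkₐ A' N).comp
      ((Algebra.TensorProduct.includeLeft :
        L →ₐ[p.ResidueField] L ⊗[p.ResidueField] k).restrictScalars A')).comp
      { algebraMap B' L with commutes' := fun _ => rfl }
  let qk : k →ₐ[A'] (L ⊗[p.ResidueField] k) ⧸ N :=
    (Ideal.Quotient.mkₐ A' N).comp
      ((Algebra.TensorProduct.includeRight :
        k →ₐ[p.ResidueField] L ⊗[p.ResidueField] k).restrictScalars A')
  let S := k ⊗[A'] B'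
  let Φ : S →ₐ[A'] (L ⊗[p.ResidueField] k) ⧸ N :=
    Algebra.TensorProduct.lift qk qL fun _ _ => Commute.all _ _
  have hΦ : Φ (1 ⊗ₜ g) ≠ 0 := by
    rw [show Φ (1 ⊗ₜ g) = qL g from
      (Algebra.TensorProduct.lift_tmul qk qL (fun _ _ => Commute.all _ _) 1 g).trans
        (by rw [map_one qk, one_mul])]
    intro h
    have hi := ((Ideal.Quotient.mk N).comp
      (Algebra.TensorProduct.includeLeft :
        L →ₐ[p.ResidueField] L ⊗[p.ResidueField] k).toRingHom).injective
    have h0 : algebraMap B' L g = 0 := hi (h.trans (map_zero _).symm)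
    exact hg (Ideal.algebraMap_residueField_eq_zero.mp h0)
  let Sg := Localization.Away ((1 : k) ⊗ₜ[A'] g)
  have : Nontrivial Sg := by
    rw [← not_subsingleton_iff_nontrivial]
    intro hs
    obtain ⟨⟨_, n, rfl⟩, hn⟩ := (IsLocalization.map_eq_zero_iff (Submonoid.powers ((1 : k) ⊗ₜ[A'] g))
      Sg 1).mp (Subsingleton.elim _ _)
    rw [mul_one] at hn
    have : (Φ ((1 : k) ⊗ₜ[A'] g)) ^ n = 0 := by rw [← map_pow, show ((1 : k) ⊗ₜ[A'] g) ^ n = 0 from hn, map_zero]
    exact hΦ ((pow_eq_zero_iff').mp this).1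
  obtain ⟨J, hJ⟩ := Ideal.exists_maximal Sg
  letI : Field (Sg ⧸ J) := Ideal.Quotient.field J
  have : Algebra.FiniteType k Sg := by
    have : Algebra.FinitePresentation S Sg := IsLocalization.Away.finitePresentation (1 ⊗ₜ[A'] g)
    exact Algebra.FiniteType.trans (S := S) inferInstance inferInstance
  have : Algebra.FiniteType k (Sg ⧸ J) :=
    Algebra.FiniteType.of_surjective (Ideal.Quotient.mkₐ k J) Ideal.Quotient.mk_surjective
  have : Module.Finite k (Sg ⧸ J) := finite_of_finite_type_of_isJacobsonRing k (Sg ⧸ J)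
  haveI : Module.IsTorsionFree k (Sg ⧸ J) := Module.isTorsionFree_iff_algebraMap_injective.2
    (algebraMap k (Sg ⧸ J)).injective
  haveI : Algebra.IsAlgebraic k (Sg ⧸ J) := Algebra.IsAlgebraic.of_finite k (Sg ⧸ J)
  let ι : Sg ⧸ J →ₐ[k] k := IsAlgClosed.lift
  let η : S →ₐ[k] k := ι.comp ((Ideal.Quotient.mkₐ k J).comp (IsScalarTower.toAlgHom k S Sg))
  refine ⟨(η.restrictScalars A').comp Algebra.TensorProduct.includeRight, ?_⟩
  exact (((IsLocalization.Away.algebraMap_isUnit ((1 : k) ⊗ₜ[A'] g)).map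
    (Ideal.Quotient.mkₐ k J)).map ι).ne_zero

theorem isOpen_image_of_good [Algebra.FinitePresentation A₀ C] (h : Good A₀ C R)
    (A' : Type u) [CommRing A'] [Algebra R A'] (g : A' ⊗[R] (R ⊗[A₀] C)) :
    IsOpen (PrimeSpectrum.comap (algebraMap A' (A' ⊗[R] (R ⊗[A₀] C))) ''
      (PrimeSpectrum.basicOpen g : Set (PrimeSpectrum (A' ⊗[R] (R ⊗[A₀] C))))) := by
  refine PrimeSpectrum.isOpen_of_stableUnderGeneralization_of_isConstructible ?_
    (PrimeSpectrum.isConstructible_comap_image
      (RingHom.finitePresentation_algebraMap.mpr inferInstance)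
      PrimeSpectrum.isConstructible_basicOpen)
  rintro p p' hpp ⟨x, hgx, rfl⟩
  have hle : p'.asIdeal ≤ (x.asIdeal.comap (algebraMap A' _)) :=
    (PrimeSpectrum.le_iff_specializes _ _).mpr hpp
  let q : Ideal A' := x.asIdeal.comap (algebraMap A' _)
  let K := AlgebraicClosure p'.asIdeal.ResidueField
  let φ0 : A' →+* K := (algebraMap p'.asIdeal.ResidueField K).comp (algebraMap A' _)
  have hφ0 : ∀ a, φ0 a = 0 ↔ a ∈ p'.asIdeal := fun a => by
    show algebraMap p'.asIdeal.ResidueField K (algebraMap A' _ a) = 0 ↔ _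
    rw [map_eq_zero, Ideal.algebraMap_residueField_eq_zero]
  have hφu : ∀ y : q.primeCompl, IsUnit (φ0 y) := fun y =>
    isUnit_iff_ne_zero.mpr fun hy => y.2 (hle ((hφ0 _).mp hy))
  let φ1 : Localization.AtPrime q →+* K := IsLocalization.lift (M := q.primeCompl) hφu
  obtain ⟨Vs, hVs, hloc⟩ := IsLocalRing.exists_factor_valuationRing φ1
  let φ : A' →+* Vs :=
    (φ1.codRestrict Vs.toSubring hVs).comp (algebraMap A' (Localization.AtPrime q))
  have hφK : ∀ a, ((φ a : Vs) : K) = φ0 a := fun a => IsLocalization.lift_eq hφu a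
  have hφm : ∀ a, residue Vs (φ a) = 0 ↔ a ∈ q := fun a => by
    rw [residue_eq_zero_iff, mem_maximalIdeal, mem_nonunits_iff,
      ← IsLocalization.AtPrime.to_map_mem_maximal_iff (Localization.AtPrime q) q a,
      mem_maximalIdeal, mem_nonunits_iff]
    exact not_congr ⟨fun hu => IsUnit.of_map (φ1.codRestrict Vs.toSubring hVs) _ hu,
      fun hu => hu.map (φ1.codRestrict Vs.toSubring hVs)⟩
  have hKalg : IsAlgClosed (FractionRing Vs) :=
    IsAlgClosed.of_ringEquiv K (FractionRing Vs) (FractionRing.algEquiv Vs K).symm.toRingEquiv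
  haveI := isAlgClosed_residueField hKalg
  letI : Algebra A' (ResidueField Vs) := ((residue Vs).comp φ).toAlgebra
  obtain ⟨ρ, hρ⟩ := exists_residue_point (A' := A') (k := ResidueField Vs) g x.asIdeal hgx
    (Ideal.ext fun a => (hφm a).symm)
  let incl : C →+* A' ⊗[R] (R ⊗[A₀] C) :=
    (Algebra.TensorProduct.includeRight : R ⊗[A₀] C →ₐ[R] A' ⊗[R] (R ⊗[A₀] C)).toRingHom.comp
      (Algebra.TensorProduct.includeRight : C →ₐ[A₀] R ⊗[A₀] C).toRingHom
  obtain ⟨β, hβ1, hβ2⟩ := h Vs hKalg (φ.comp (algebraMap R A')) (ρ.toRingHom.comp incl)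
    (RingHom.ext fun a => by
      show ρ (1 ⊗ₜ[R] (1 ⊗ₜ[A₀] algebraMap A₀ C a)) = _
      rw [show ((1 : R) ⊗ₜ[A₀] algebraMap A₀ C a) = algebraMap A₀ R a ⊗ₜ[A₀] (1 : C) by
          rw [Algebra.algebraMap_eq_smul_one, Algebra.algebraMap_eq_smul_one,
            TensorProduct.smul_tmul],
        show (1 : A') ⊗ₜ[R] (algebraMap A₀ R a ⊗ₜ[A₀] (1 : C)) =
          algebraMap A' (A' ⊗[R] (R ⊗[A₀] C)) (algebraMap R A' (algebraMap A₀ R a)) by
          show _ = algebraMap R A' (algebraMap A₀ R a) ⊗ₜ[R] (1 : R ⊗[A₀] C)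
          rw [Algebra.algebraMap_eq_smul_one (A := A'), TensorProduct.smul_tmul,
            ← Algebra.algebraMap_eq_smul_one]
          rfl,
        ρ.commutes]
      rfl)
  letI : Algebra R Vs := (φ.comp (algebraMap R A')).toAlgebra
  letI : Algebra A₀ Vs := ((φ.comp (algebraMap R A')).comp (algebraMap A₀ R)).toAlgebra
  have : IsScalarTower A₀ R Vs := .of_algebraMap_eq fun _ => rfl
  let θC : R ⊗[A₀] C →ₐ[R] Vs :=
    Algebra.TensorProduct.lift (Algebra.ofId R Vs)
      (⟨β, fun a => RingHom.congr_fun hβ1 a⟩ : C →ₐ[A₀] Vs) fun _ _ => Commute.all _ _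
  let θ : A' ⊗[R] (R ⊗[A₀] C) →+* Vs :=
    (Algebra.TensorProduct.lift (⟨φ, fun _ => rfl⟩ : A' →ₐ[R] Vs) θC
      fun _ _ => Commute.all _ _).toRingHom
  have hθρ : ∀ z, residue Vs (θ z) = ρ z := by
    intro z
    induction z using TensorProduct.induction_on with
    | zero => simp
    | add a b ha hb => simp [ha, hb]
    | tmul a y =>
      induction y using TensorProduct.induction_on with
      | zero => simp
      | add b c hb hc => simp [TensorProduct.tmul_add, hb, hc]
      | tmul r c =>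
        have e : a ⊗ₜ[R] (r ⊗ₜ[A₀] c) =
            algebraMap A' (A' ⊗[R] (R ⊗[A₀] C)) (a * algebraMap R A' r) * incl c := by
          show _ = ((a * algebraMap R A' r) ⊗ₜ[R] (1 : R ⊗[A₀] C)) * (1 ⊗ₜ[R] (1 ⊗ₜ[A₀] c))
          rw [Algebra.TensorProduct.tmul_mul_tmul, mul_one, one_mul, ← Algebra.commutes,
            ← Algebra.smul_def, TensorProduct.smul_tmul, TensorProduct.smul_tmul', smul_eq_mul,
            mul_one]
        rw [e, map_mul, map_mul ρ, ρ.commutes, map_mul (residue Vs)]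
        congr 1
        · show residue Vs (θ ((a * algebraMap R A' r) ⊗ₜ[R] 1)) = _
          simp [θ, RingHom.algebraMap_toAlgebra]
        · refine Eq.trans ?_ (RingHom.congr_fun hβ2 c)
          show residue Vs (θ (1 ⊗ₜ[R] (1 ⊗ₜ[A₀] c))) = _
          simp [θ, θC]
  refine ⟨⟨RingHom.ker θ, RingHom.ker_isPrime _⟩, fun hg => hρ ?_, ?_⟩
  · rw [← hθρ, show θ g = 0 from hg, map_zero]
  · refine PrimeSpectrum.ext (Ideal.ext fun a => ?_)
    show θ (a ⊗ₜ[R] 1) = 0 ↔ a ∈ p'.asIdeal
    rw [← hφ0, ← hφK]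
    simp [θ]

theorem universallyOpen_iff_good [Algebra.FinitePresentation A₀ C] :
    UniversallyOpen (Spec.map (CommRingCat.ofHom (algebraMap R (R ⊗[A₀] C)))) ↔ Good A₀ C R :=
  ⟨good_of_universallyOpen, fun h => Groth.FlatMor2.universallyOpen_SpecMap_of_forall
    fun A' _ _ g => isOpen_image_of_good h A' g⟩

end Groth.UOpenDesc
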